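import Cfsg.Agent.H0.Cover
import Cfsg.Agent.H0.ML29.D
set_option maxRecDepth 100000
set_option Elab.async false
set_option linter.unusedSectionVars false
namespace H0.VL292
open H0 BN 
noncomputable def n0 : Net := (Net.cons (nat_lit 64) (nat_lit 0xc0c00cf00c0000) (Net.cons (nat_lit 32) (nat_lit 0x30c0f000000000000303f3f0) (Net.cons (nat_lit 16) (nat_lit 0xc0000000cccc00003fc300003cc0) (Net.cons (nat_lit 8) (nat_lit 0x30000000c000cf00f300c300f0) (Net.cons (nat_lit 4) (nat_lit 0xc0c0c0c000c000c0f00000f00) (Net.cons (nat_lit 2) (nat_lit 0x30000030000003330330300330003003) (Net.cons (nat_lit 1) (nat_lit 0x10000040040401440444001441115401) (Net.cons (nat_lit 4) (nat_lit 0xc00000c000c000c0c0c000000) (Net.cons (nat_lit 8) (nat_lit 0x30000000c0003000c000f000f0) (Net.cons (nat_lit 16) (nat_lit 0xc0000000cccc0000cfc000003300) (Net.cons (nat_lit 32) (nat_lit 0x30c0f000000000000c30c000) (Net.cons (nat_lit 64) (nat_lit 0xc0c00cf00c0000) Net.nil))))))))))))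
noncomputable def n1 : Net := (Net.cons (nat_lit 64) (nat_lit 0xf0ff33f3c3fc0f00) (Net.cons (nat_lit 32) (nat_lit 0xcff0330000000000033c0c) (Net.cons (nat_lit 16) (nat_lit 0xf0f0000033f30000f00c00003000) (Net.cons (nat_lit 8) (nat_lit 0xf000c000cc00f30003000000000003) (Net.cons (nat_lit 4) (nat_lit 0xc0c0003000c000300000000000003) (Net.cons (nat_lit 2) (nat_lit 0x300330030030003003000000000330) (Net.cons (nat_lit 1) (nat_lit 0x50401540401050011404000004001004) (Net.cons (nat_lit 4) (nat_lit 0xc00000000000c00000000000c0c) (Net.cons (nat_lit 8) (nat_lit 0x3000c0003c00f000000000000000fc) (Net.cons (nat_lit 16) (nat_lit 0x330c0000f00c00003c00) (Net.cons (nat_lit 32) (nat_lit 0x33c0f0000000000003f000) (Net.cons (nat_lit 64) (nat_lit 0xf0ff33f3c3fc0f00) Net.nil))))))))))))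
noncomputable def n2 : Net := (Net.cons (nat_lit 64) (nat_lit 0xf0ff33f3c3fc0f00) (Net.cons (nat_lit 32) (nat_lit 0x330c0f3000000000f000f0c) (Net.cons (nat_lit 16) (nat_lit 0x30000330c00000c000000f333) (Net.cons (nat_lit 8) (nat_lit 0x3300c000fc00f0000000c000fc003f) (Net.cons (nat_lit 4) (nat_lit 0xc000f0000000000000c0003000f) (Net.cons (nat_lit 2) (nat_lit 0x300330300030000000030000030303) (Net.cons (nat_lit 1) (nat_lit 0x51101510005050000400000410440100) (Net.cons (nat_lit 4) (nat_lit 0xc0c000c000c0000000000000c000c) (Net.cons (nat_lit 8) (nat_lit 0xf000c0000c00f0000000c000cc003c) (Net.cons (nat_lit 16) (nat_lit 0xf0f0000033f0000000000000c330) (Net.cons (nat_lit 32) (nat_lit 0x3ccf030000000000f00c300) (Net.cons (nat_lit 64) (nat_lit 0xf0ff33f3c3fc0f00) Net.nil))))))))))))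
noncomputable def n3 : Net := (Net.cons (nat_lit 64) (nat_lit 0x30c003000300000) (Net.cons (nat_lit 32) (nat_lit 0x30c0c00000000003333fc00) (Net.cons (nat_lit 16) (nat_lit 0x33c0000c0c300003cfc) (Net.cons (nat_lit 8) (nat_lit 0x30000000c000c3003f003c0033) (Net.cons (nat_lit 4) (nat_lit 0xc00000c000f0f000c0f000f0c00) (Net.cons (nat_lit 2) (nat_lit 0x3000003030333300003330003030) (Net.cons (nat_lit 1) (nat_lit 0x1000004041054500051010504415) (Net.cons (nat_lit 4) (nat_lit 0xc00000c00000000000000000c00) (Net.cons (nat_lit 8) (nat_lit 0x30000000c000c0003c003c0030) (Net.cons (nat_lit 16) (nat_lit 0xc30000003cf0) (Net.cons (nat_lit 32) (nat_lit 0x30c0c000000000033333c00) (Net.cons (nat_lit 64) (nat_lit 0x30c003000300000) Net.nil))))))))))))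
noncomputable def n4 : Net := (Net.cons (nat_lit 64) (nat_lit 0xc0ccf0f0f003f0c0) (Net.cons (nat_lit 32) (nat_lit 0xf000ff3000000000330f0030) (Net.cons (nat_lit 16) (nat_lit 0xf3c00000003c000003000000c333) (Net.cons (nat_lit 8) (nat_lit 0xc000000c000300030000c003000cc) (Net.cons (nat_lit 4) (nat_lit 0xf000c00000f0003030000030c0f0f03) (Net.cons (nat_lit 2) (nat_lit 0x30003030000300300300000303030303) (Net.cons (nat_lit 1) (nat_lit 0x15000410004000400100000140040010) (Net.cons (nat_lit 4) (nat_lit 0xc000000000000000000000c0000) (Net.cons (nat_lit 8) (nat_lit 0xc003000c00030003c0000003000c0) (Net.cons (nat_lit 16) (nat_lit 0x33c00000003c000003000000fff0) (Net.cons (nat_lit 32) (nat_lit 0xf0003ff000000000300f0030) (Net.cons (nat_lit 64) (nat_lit 0xc0ccf0f0f00303c0) Net.nil))))))))))))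
noncomputable def n5 : Net := (Net.cons (nat_lit 64) (nat_lit 0xc0ccf0f0f00303c0) (Net.cons (nat_lit 32) (nat_lit 0xf0003ff000000000300f0030) (Net.cons (nat_lit 16) (nat_lit 0x33c00000003c000003000000c30c) (Net.cons (nat_lit 8) (nat_lit 0xc003000c00030003c000000000033) (Net.cons (nat_lit 4) (nat_lit 0xf000c00000f000f0f00000f0f0f0003) (Net.cons (nat_lit 2) (nat_lit 0x3003030003000033000003030300330) (Net.cons (nat_lit 1) (nat_lit 0x54000440000400014000004004010010) (Net.cons (nat_lit 4) (nat_lit 0xc000000000c0c00000c00000000) (Net.cons (nat_lit 8) (nat_lit 0xc000000c000300030000c00000030) (Net.cons (nat_lit 16) (nat_lit 0xf3c00000003c000003000000f00c) (Net.cons (nat_lit 32) (nat_lit 0xf000ff3000000000330f0030) (Net.cons (nat_lit 64) (nat_lit 0xc0ccf0f0f003f0c0) Net.nil))))))))))))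
noncomputable def n6 : Net := (Net.cons (nat_lit 64) (nat_lit 0xc003c0fcc0c0000) (Net.cons (nat_lit 32) (nat_lit 0xcccf0000000000c300f0) (Net.cons (nat_lit 16) (nat_lit 0x30000000c03c000000000000c00c) (Net.cons (nat_lit 8) (nat_lit 0xc000000000000c0030003c0033) (Net.cons (nat_lit 4) (nat_lit 0xc00000c000c000000000f00030f0003) (Net.cons (nat_lit 2) (nat_lit 0x30000003003033033330030030030300) (Net.cons (nat_lit 1) (nat_lit 0x40004405000005044141140005100010) (Net.cons (nat_lit 4) (nat_lit 0xc000000000c000000000c000c0c0000) (Net.cons (nat_lit 8) (nat_lit 0xc00f000cc0030) (Net.cons (nat_lit 16) (nat_lit 0x30000000cc30000003300000c0cc) (Net.cons (nat_lit 32) (nat_lit 0xf0c00000000033300000) (Net.cons (nat_lit 64) (nat_lit 0xc003c0fcc0c0000) Net.nil))))))))))))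
noncomputable def n7 : Net := (Net.cons (nat_lit 64) (nat_lit 0xc003c0fcc0c0000) (Net.cons (nat_lit 32) (nat_lit 0xc303f00000000c0f0c000) (Net.cons (nat_lit 16) (nat_lit 0x303000003c000000c3f000003000) (Net.cons (nat_lit 8) (nat_lit 0xc00300000003c) (Net.cons (nat_lit 4) (nat_lit 0xc0c0000000000000000030003030003) (Net.cons (nat_lit 2) (nat_lit 0x30300003300003033330000030300303) (Net.cons (nat_lit 1) (nat_lit 0x10000401000045050411110011110040) (Net.cons (nat_lit 4) (nat_lit 0xc0c00000000000c000000000000000c) (Net.cons (nat_lit 8) (nat_lit 0xc0000c0030000000f0) (Net.cons (nat_lit 16) (nat_lit 0x303c000030000000c0300000c300) (Net.cons (nat_lit 32) (nat_lit 0xc0c3000000000f0f3c030) (Net.cons (nat_lit 64) (nat_lit 0xc003c0fcc0c0000) Net.nil))))))))))))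
noncomputable def n8 : Net := (Net.cons (nat_lit 1) (nat_lit 0x55555555555555555555) Net.nil)
noncomputable def nl : List Net := [n0, n1, n2, n3, n4, n5, n6, n7, n8]
theorem nl_ok : allL (Net.ok (nat_lit 128)) nl = true := by decide +kernel
noncomputable def R : Rep := mkRep (nat_lit 7) (nat_lit 128) nl (by decide +kernel) nl_ok
def defs : List (List ℕ) := []
theorem R_ge : ∀ x, 9 + defs.length ≤ x → R.p x = 1 := fun _ hx => mkRep_ge hx
def J : List ℕ := [1, 0, 0, 1, 0, 0, 0, 0, 1, 1, 1, 1, 1, 1, 1, 1, 1, 0, 0, 0, 1, 1, 1, 1, 0]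
def c : List ℕ := [1, 0, 0, 0, 0, 0, 0, 0, 0, 0, 0, 0, 0, 0, 0, 0, 0, 0, 0, 0, 0, 0, 0, 0, 0]
def E : List (List ℕ × List ℕ) := covE 8 H0.ML29.B J
theorem c0 : pairsW R 0 7 ((E.drop 0).take 33) = true := by decide +kernel
theorem c1 : eqW R 0 R.lg [8, 8] [] = true := by decide +kernel
theorem c2 : mapsP R [8] [0] [1] = true := by decide +kernel
end H0.VL292
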